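import Cfsg.Agent.Lib.Grp.SchurM.TailSection

/-! A packed evaluation of certificates between tails modulo two. -/

set_option autoImplicit false

namespace Cfsg.Agent.Spor.Cos.Co2Mult

open Cfsg.Agent.Grp.SchurM.Tails

/-- The parities of the occurrences as bits. -/
def par : List ℕ → ℕ
  | [] => 0
  | a :: l => 2 ^ a ^^^ par l

/-- The sum of some stored parity vectors. -/
def xsum (V : List ℕ) : List ℕ → ℕ
  | [] => 0
  | k :: l => V.getD k 0 ^^^ xsum V l

/-- The stored vectors are the parities of the equations. -/
def chkPar (P : PC) (C : List Conj) : List Eqn → List ℕ → Bool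
  | [], [] => true
  | q :: l, v :: V =>
    (match q.tails P C with
      | some T => T.all (fun a => Nat.blt a P.R) && Nat.beq (par T) v
      | none => false) && chkPar P C l V
  | _, _ => false

/-- The combinations on stored vectors, read through a mask. -/
def chkMask (P : PC) (K : Cert) (V : List ℕ) (M : ℕ) : Bool :=
  Nat.beq P.p 2 && P.wellFormed && P.defsOK &&
    ((List.range P.R).all fun r => (Nat.testBit M r) || P.isDef r || Nat.beq r K.free) &&
    (List.range P.R).all fun r => P.isDef r || Nat.beq r K.free ||
      Nat.beq (xsum V (K.combo.getD r []) &&& M) (2 ^ r)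

theorem testBit_par (r : ℕ) : ∀ T : List ℕ, Nat.testBit (par T) r = decide (cnt r T % 2 = 1)
  | [] => by simp [par, cnt]
  | a :: T => by
    rw [par, Nat.testBit_xor, testBit_par r T, Nat.testBit_two_pow, cnt]
    by_cases h : a = r
    · subst h
      simp only [Nat.beq_refl, if_true, decide_true]
      rcases Nat.mod_two_eq_zero_or_one (cnt a T) with e | e <;> simp [e, Nat.add_mod]
    · have hb : Nat.beq a r = false := by
        rcases hq : Nat.beq a r with _ | _
        · rfl
        · exact absurd (Nat.eq_of_beq_eq_true hq) h
      simp [hb, h]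

theorem par_append : ∀ a b : List ℕ, par (a ++ b) = par a ^^^ par b
  | [], b => by simp [par]
  | x :: a, b => by rw [List.cons_append, par, par, par_append a b, Nat.xor_assoc]

theorem chkPar_spec (P : PC) (C : List Conj) : ∀ (l : List Eqn) (V : List ℕ), chkPar P C l V = true →
    l.all (fun q => (q.tails P C).isSome) = true ∧
      ∀ k, V.getD k 0 = par ((l.map fun q => (q.tails P C).getD []).getD k []) ∧
        ∀ a ∈ (l.map fun q => (q.tails P C).getD []).getD k [], a < P.R
  | [], [], _ => by simp [par]
  | [], _ :: _, h => by simp [chkPar] at h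
  | _ :: _, [], h => by simp [chkPar] at h
  | q :: l, v :: V, h => by
    simp only [chkPar, Bool.and_eq_true] at h
    obtain ⟨hq, hl⟩ := h
    obtain ⟨hs, hk⟩ := chkPar_spec P C l V hl
    cases hT : q.tails P C with
    | none => simp [hT] at hq
    | some T =>
      simp only [hT, Bool.and_eq_true, List.all_eq_true] at hq
      refine ⟨by rw [List.all_cons, hT, hs]; rfl, fun k => ?_⟩
      cases k with
      | zero =>
        simp only [List.map_cons, List.getD_cons_zero, hT, Option.getD_some]
        exact ⟨(Nat.eq_of_beq_eq_true hq.2).symm, fun a ha => Nat.le_of_ble_eq_true (hq.1 a ha)⟩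
      | succ k =>
        simp only [List.map_cons, List.getD_cons_succ]
        exact hk k

/-- A certificate modulo two is correct once checked on packed parities. -/
theorem check_of_parity {P : PC} {C : List Conj} {K : Cert} {V : List ℕ} {M : ℕ}
    (h1 : chkPar P C K.eqns V = true) (h2 : chkMask P K V M = true) : K.check P C = true := by
  obtain ⟨hs, hk⟩ := chkPar_spec P C _ V h1
  simp only [chkMask, Bool.and_eq_true, Bool.or_eq_true, List.all_eq_true, List.mem_range] at h2
  obtain ⟨⟨⟨⟨hp, hw⟩, hd⟩, hM⟩, hrow⟩ := h2
  have hp2 : P.p = 2 := Nat.eq_of_beq_eq_true hp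
  have hxs : ∀ c : List ℕ, xsum V c = par (comboList (eqTails P C K) c) := by
    intro c
    induction c with
    | nil => rfl
    | cons k c ih =>
      rw [xsum, ih, (hk k).1, show comboList (eqTails P C K) (k :: c) =
        (eqTails P C K).getD k [] ++ comboList (eqTails P C K) c from List.flatMap_cons, par_append]
      rfl
  simp only [Cert.check, Bool.and_eq_true, Bool.or_eq_true, List.all_eq_true, List.mem_range]
  refine ⟨⟨⟨hw, hd⟩, List.all_eq_true.1 hs⟩, fun r hr => ?_⟩
  rcases hrow r hr with h | h
  · exact Or.inl h
  refine Or.inr ⟨fun a ha => ?_, fun r' hr' => ?_⟩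
  · simp only [comboList, List.mem_flatMap] at ha
    obtain ⟨k, -, hk'⟩ := ha
    exact Nat.ble_eq_true_of_le ((hk k).2 a hk')
  · rcases hM r' hr' with (hb | h') | h'
    · refine Or.inr ?_
      have e := congrArg (fun x => Nat.testBit x r') (Nat.eq_of_beq_eq_true h)
      simp only [Nat.testBit_and, hb, Bool.and_true, hxs, testBit_par, Nat.testBit_two_pow,
        decide_eq_decide] at e
      rw [hp2]
      rcases Nat.mod_two_eq_zero_or_one (cnt r' (comboList (eqTails P C K) (K.combo.getD r []))) with z | z
      · have hne : r ≠ r' := fun q => absurd (e.2 q) (by omega)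
        have hb' : Nat.beq r' r = false := by
          rcases hq : Nat.beq r' r with _ | _
          · rfl
          · exact absurd (Nat.eq_of_beq_eq_true hq).symm hne
        rw [z, hb']; rfl
      · obtain rfl := e.1 z
        rw [z, Nat.beq_refl]; rfl
    · exact Or.inl (Or.inl h')
    · exact Or.inl (Or.inr h')

end Cfsg.Agent.Spor.Cos.Co2Mult
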